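import Cfsg.Agent.Spor.ModelU35
import Cfsg.Agent.Comp.Prim

/-!
A subgroup of order 2520 in the permutation model of the unitary group over the field with 25 elements.
-/

set_option autoImplicit false
set_option maxRecDepth 4096

namespace Cfsg.Agent.Class.MinDegU.A7

open Cfsg.Agent.Comp Cfsg.Agent.Spor.ModelU35

noncomputable def A_C2 : List Lvl :=
  []

noncomputable def A_ss1 : List (List ℕ) :=
  [[7, 11, 6, 11], [5, 13]]

noncomputable def A_D1 : ℕ :=
  nat_lit 0x441801010002810002c8208014142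

noncomputable def A_l1 : Lvl :=
  ⟨1, [[7, 11, 6, 11], [5, 13], [5, 13, 5, 13]],
  tabC 15 32767 [nat_lit 0xe04000000000000000000000000000000000000000000000000000007010000b800380c0000000020400000000000000000000820000000000000000000b80600000000000000000000000000000000000002100000004040000000000000000003c000001a0040000000000000000000000,
 nat_lit 0x170100000000000084040000000000000000005c02020600000000000000000000000000000000000000100000000000000000000000000002701000000000000000000000000000000000000000000000000000033800000560400000000000], 3⟩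

noncomputable def A_C1 : List Lvl :=
  A_l1 :: A_C2

noncomputable def A_ss0 : List (List ℕ) :=
  [[8, 12, 8], [8, 11, 5]]

noncomputable def A_D0 : ℕ :=
  nat_lit 0x3fffffffffffffffffffffffffffffff

noncomputable def A_l0 : Lvl :=
  ⟨0, [[8, 12, 8], [8, 11, 5], [5, 8, 8, 4, 12, 8], [7, 11, 6, 11], [5, 13], [5, 13, 5, 13]],
  tabC 15 32767 [nat_lit 0x6153005b83aa09140854049831e098e157426b025602da077002904b702ae0694255055d0adc100006583eb03540f6c040018e034200ac0a3815d08a4001803e808f02d0149c01080c903a415342950119030004b40248321062602a821381db04bc0d7402485060802031c0d2840f0a6e00a4010850000,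
 nat_lit 0x23847d0296117800781ee012a01241cc843701ac00a81aa845e015a031c109825b024a00ac04f03aa014211302ae009506fa094c029825400fa011c2638368092615c8000805b0626112c2be8186094a14a80e5848a07a41148195025d048e01ec0898037030001b4250825f04dc143c228806e03], 4⟩

noncomputable def A_C0 : List Lvl :=
  A_l0 :: A_C1

theorem A_ver2 : Ver ns A_C2 1 :=
  ver_nil _

theorem A_le1 : gen ns A_l1.ws ≤ gen ns A_ss1 :=
  gen_le_step ctx (tgt := [[5, 13, 5, 13]])
  (es := [([5, 13, 5, 13], [2, 1, 3, 1])]) (le_refl (gen _ [])) (by decide +kernel)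

theorem A_lv1 : chkLvl 128 ns A_l1 A_C2 A_D1 2 = true :=
  by decide +kernel

theorem A_pt1_0 : AllIn (PtOK 128 ns A_l1 A_C2 A_ss1 A_D1) 0 128 :=
  ptOK_of_chkPts ctx A_ver2 (a := 0) (n := 2) (by decide +kernel)

theorem A_st1 : IsStab 128 (gen ns A_l1.ws) (cgrp ns A_C2) A_l1.b A_D1 :=
  isStab_plain ctx A_le1 A_lv1 (by norm_num) A_pt1_0

theorem A_ver1 : Ver ns A_C1 20 :=
  A_ver2.cons ctx A_st1 (by decide +kernel)

theorem A_le0 : gen ns A_l0.ws ≤ gen ns A_ss0 :=
  gen_le_step ctx (tgt := [[7, 11, 6, 11], [5, 13], [5, 8, 8, 4, 12, 8]])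
  (es := [([7, 11, 6, 11], [1, 1, 3, 1, 1]), ([5, 13], [5, 3, 5, 3, 3, 3, 5, 5, 3, 5, 2, 2]), ([5, 8, 8, 4, 12, 8], [4, 4, 6, 4, 4, 6])]) A_le1 (by decide +kernel)

theorem A_lv0 : chkLvl 128 ns A_l0 A_C1 A_D0 2 = true :=
  by decide +kernel

theorem A_pt0_0 : AllIn (PtOK 128 ns A_l0 A_C1 A_ss0 A_D0) 0 128 :=
  ptOK_of_chkPts ctx A_ver1 (a := 0) (n := 2) (by decide +kernel)

theorem A_st0 : IsStab 128 (gen ns A_l0.ws) (cgrp ns A_C1) A_l0.b A_D0 :=
  isStab_plain ctx A_le0 A_lv0 (by norm_num) A_pt0_0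

theorem A_ver0 : Ver ns A_C0 2520 :=
  A_ver1.cons ctx A_st0 (by decide +kernel)

theorem A_eq : gen ns A_ss0 = cgrp ns A_C0 :=
  le_antisymm (gen_le_of_subsetL _ (by decide +kernel)) A_le0

theorem A_card : Nat.card (gen ns A_ss0) = 2520 :=
  by rw [A_eq]; exact A_ver0.card

theorem A_le : gen ns A_ss0 ≤ gen ns G_ss0 :=
  G_eq ▸ gen_le_iff.2 (mem_of_siftAll ctx G_ver0.nested (by decide +kernel))

theorem exists_index (F : Type*) [Field F] [Fintype F] (hF : Fintype.card F = 25) :
    ∃ K : Subgroup (PSU 3 F 5), K.index = 50 := by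
  let e := (Class.psuCongr 3 5 (Class.ringEquivGF25 hF)).trans equiv
  refine ⟨((gen ns A_ss0).subgroupOf (gen ns G_ss0)).comap e.toMonoidHom, ?_⟩
  have h := ((gen ns A_ss0).subgroupOf (gen ns G_ss0)).card_mul_index
  rw [Nat.card_congr (Subgroup.subgroupOfEquivOfLe A_le).toEquiv, A_card, G_card] at h
  rw [Subgroup.index_comap_of_surjective _ e.surjective]
  omega

end Cfsg.Agent.Class.MinDegU.A7
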